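import Cfsg.Agent.Lib.Nd4.Gen
import Cfsg.Agent.Lib.FGS.Regular
import Cfsg.Agent.Lib.Coprime.Gaschutz

/-!
# Case α: the lower central series of `G'`
-/

set_option autoImplicit false
set_option linter.unusedSectionVars false

namespace Cfsg.Lib.Nd4
open Cfsg.Lib.Char Cfsg.Lib.CharDeg Cfsg.Lib.Clifford Cfsg.Lib.Induce Cfsg.Lib.Core Cfsg.Lib.Gar
  Cfsg.Lib.RelGraph Cfsg.Lib.Nda Cfsg.Lib.BG Subgroup MulAction
open scoped commutatorElement

variable {G : Type*} [Group G] [Fintype G] {N P H : Subgroup G} [N.Normal] [P.Normal] {p : ℕ}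

theorem a1_csl {G : Type*} [Group G] {A B C J : Subgroup G} [J.Normal] (h1 : ⁅A, C⁆ ≤ J) (h2 : ⁅B, C⁆ ≤ J) :
    ⁅A ⊔ B, C⁆ ≤ J := by
  rw [← map_mk'_eq_bot_iff, map_commutator, commutator_eq_bot_iff_le_centralizer] at h1 h2 ⊢
  rw [Subgroup.map_sup]
  exact sup_le h1 h2

theorem a1_csr {G : Type*} [Group G] {A B C J : Subgroup G} [J.Normal] (h1 : ⁅C, A⁆ ≤ J) (h2 : ⁅C, B⁆ ≤ J) :
    ⁅C, A ⊔ B⁆ ≤ J := by
  rw [Subgroup.commutator_comm] at h1 h2 ⊢
  exact a1_csl h1 h2

theorem a1_mono {G : Type*} [Group G] {A B : Subgroup G} (h : A ≤ B) (i : ℕ) :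
    A.lowerCentralSeries i ≤ B.lowerCentralSeries i := by
  induction i with
  | zero => exact h
  | succ i ih => exact commutator_mono ih h

namespace Al

theorem le_of_le_sup' (hp : p.Prime) (hP : IsPGroup p P) {J : Subgroup G} [J.Normal] {i : ℕ}
    (h1 : P.lowerCentralSeries i ≤ J ⊔ P.lowerCentralSeries (i + 1)) : P.lowerCentralSeries i ≤ J := by
  have := Fact.mk hp
  obtain ⟨n, hn⟩ := (Subgroup.isNilpotent_iff_lowerCentralSeries P).1 hP.isNilpotent
  have k1 : ∀ k, P.lowerCentralSeries (i + k) ≤ J ⊔ P.lowerCentralSeries (i + k + 1) := fun k => by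
    induction k with
    | zero => exact h1
    | succ k ih =>
      exact (commutator_mono ih le_rfl).trans (a1_csl ((commutator_le_left J P).trans le_sup_left) le_sup_right)
  have k2 : ∀ k, P.lowerCentralSeries i ≤ J ⊔ P.lowerCentralSeries (i + k) := fun k => by
    induction k with
    | zero => exact le_sup_right
    | succ k ih => exact ih.trans (sup_le le_sup_left (k1 k))
  exact (k2 n).trans (sup_le le_rfl ((P.lowerCentralSeries_antitone (Nat.le_add_left n i)).trans (hn.le.trans bot_le)))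

variable (h : Al G N P H p) (hG : _root_.commutator G ≤ P)
  (hd : ∀ g ∈ P, ∃ b ∈ P ⊓ 𝐂(H), ∃ r ∈ _root_.commutator G, g = b * r)
  (hB : ⁅P ⊓ 𝐂(H), _root_.commutator G⁆ ≤ P.lowerCentralSeries 2)
include h hG hd hB

theorem R1' : (_root_.commutator G).lowerCentralSeries 1 = P.lowerCentralSeries 1 := by
  have := Fact.mk h.hp
  set R := _root_.commutator G with hR
  have hP : P ≤ (P ⊓ 𝐂(H)) ⊔ R := fun g hg => by
    obtain ⟨b, hb, r, hr, rfl⟩ := hd g hg
    exact mul_mem_sup hb hr
  refine le_antisymm (a1_mono hG 1) (le_of_le_sup' h.hp h.pP ?_)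
  set J := R.lowerCentralSeries 1 ⊔ P.lowerCentralSeries (1 + 1) with hJ
  have PR : ⁅P, R⁆ ≤ J := (commutator_mono hP le_rfl).trans (a1_csl (hB.trans le_sup_right) le_sup_left)
  have BB : ⁅P ⊓ 𝐂(H), P ⊓ 𝐂(H)⁆ ≤ J := by
    let π := QuotientGroup.mk' J
    have c : R.map π ≤ 𝐂(P.map π) := by
      rw [← commutator_eq_bot_iff_le_centralizer, ← map_commutator, map_mk'_eq_bot_iff, Subgroup.commutator_comm]
      exact PR
    have Rn : (R.map π).Normal := Normal.map inferInstance π (QuotientGroup.mk'_surjective J)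
    have top : P.map π ⊔ H.map π = ⊤ := by
      rw [← Subgroup.map_sup, h.sup, map_top_of_surjective _ (QuotientGroup.mk'_surjective J)]
    have n : (⁅R.map π, H.map π⁆).Normal := by
      rw [← normalizer_eq_top_iff, eq_top_iff, ← top]
      exact sup_le ((le_centralizer_iff.1 ((commutator_le_left _ _).trans c)).trans (centralizer_le_normalizer _))
        (right_norm_comm _ _)
    have e : R.map π ≤ ⁅R.map π, H.map π⁆ := by
      refine (map_mono h.nq).trans ?_
      rw [map_commutator, map_top_of_surjective _ (QuotientGroup.mk'_surjective J), ← top]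
      exact a1_csr ((commutator_eq_bot_iff_le_centralizer.2 c).le.trans bot_le) le_rfl
    have ab : IsMulCommutative (R.map π) := le_centralizer_iff_isMulCommutative.1 (c.trans (centralizer_le (map_mono hG)))
    have cp : (Nat.card (H.map π)).Coprime (Nat.card (R.map π)) := by
      obtain ⟨k, hk⟩ := IsPGroup.iff_card.1 ((h.pP.to_le hG).map π)
      rw [hk]
      exact (((Nat.Prime.coprime_iff_not_dvd h.hp).2 h.pH).symm.coprime_dvd_left (card_map_dvd _ _)).pow_right k
    have z := Coprime.centralizer_inf_commutator_eq_bot ab le_normalizer_of_normal cp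
    rw [← map_mk'_eq_bot_iff, eq_bot_iff, ← z]
    have l : (⁅P ⊓ 𝐂(H), P ⊓ 𝐂(H)⁆).map π ≤ R.map π := map_mono (commutator_mono le_top le_top)
    have l' : (⁅P ⊓ 𝐂(H), P ⊓ 𝐂(H)⁆).map π ≤ 𝐂(H.map π) := by
      rw [← commutator_eq_bot_iff_le_centralizer, ← map_commutator, commutator_eq_bot_iff_le_centralizer.2
        ((commutator_le_self _).trans inf_le_right), Subgroup.map_bot]
    exact le_inf l' (l.trans e)
  refine (commutator_mono le_rfl hP).trans (a1_csr ((commutator_mono hP le_rfl).trans (a1_csl BB ?_)) PR)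
  rw [Subgroup.commutator_comm]
  exact hB.trans le_sup_right

theorem lcs_eq' (i : ℕ) :
    (_root_.commutator G).lowerCentralSeries (i + 1) = P.lowerCentralSeries (i + 1) ∧
      ⁅P ⊓ 𝐂(H), P.lowerCentralSeries (i + 1)⁆ ≤ P.lowerCentralSeries (i + 3) := by
  have hP : P ≤ (P ⊓ 𝐂(H)) ⊔ _root_.commutator G := fun g hg => by
    obtain ⟨b, hb, r, hr, rfl⟩ := hd g hg
    exact mul_mem_sup hb hr
  have k1 : ∀ i, ⁅P ⊓ 𝐂(H), (_root_.commutator G).lowerCentralSeries i⁆ ≤ P.lowerCentralSeries (i + 2) := fun i => by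
    induction i with
    | zero => exact hB
    | succ i ih =>
      rw [Subgroup.commutator_comm]
      refine three_subgroups_normal _ ?_ (commutator_mono ih hG)
      rw [Subgroup.commutator_comm (_root_.commutator G)]
      refine (commutator_mono hB (a1_mono hG i)).trans ((RegP.comm_lcs_le P 2 i).trans ?_)
      rw [add_comm 2 i]
  have k2 : ∀ i, (_root_.commutator G).lowerCentralSeries (i + 1) = P.lowerCentralSeries (i + 1) := fun i => by
    induction i with
    | zero => exact h.R1' hG hd hB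
    | succ i ih =>
      refine le_antisymm (a1_mono hG _) (le_of_le_sup' h.hp h.pP ((commutator_mono ih.ge hP).trans (a1_csr ?_ le_sup_left)))
      rw [Subgroup.commutator_comm]
      exact (k1 (i + 1)).trans le_sup_right
  exact ⟨k2 i, k2 i ▸ k1 (i + 1)⟩

end Al

end Cfsg.Lib.Nd4
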