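import Cfsg.Agent.Lib.Nd4.Al1

/-!
# Case α: degrees at level two
-/

set_option autoImplicit false

namespace Cfsg.Lib.Nd4
open Cfsg.Lib.Char Cfsg.Lib.CharDeg Cfsg.Lib.Clifford Cfsg.Lib.Induce Cfsg.Lib.Core Cfsg.Lib.Gar
  Cfsg.Lib.RelGraph Cfsg.Lib.Nda Cfsg.Lib.BG Subgroup MulAction
open scoped commutatorElement

variable {G : Type*} [Group G] [Fintype G] {N P H : Subgroup G} [N.Normal] [P.Normal] {p : ℕ}
  {χ : G → ℂ} {φ : P → ℂ}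

theorem Al.deg2' (h : Al G N P H p) {φ' : P → ℂ} {μ μ' : Lin (P.lowerCentralSeries 1)} (hφ : IsIrrCharacter P φ)
    (hφ' : IsIrrCharacter P φ') (hl : Ly (lcs_le P _) φ μ) (hl' : Ly (lcs_le P _) φ' μ') (h0 : μ ≠ 1)
    (h0' : μ' ≠ 1) (h1 : μ ∈ Tr _ (P.lowerCentralSeries 2)) (h1' : μ' ∈ Tr _ (P.lowerCentralSeries 2))
    (h2 : μ' / μ ∈ Tr _ 𝐂(H)) : charDegree φ = charDegree φ' := by
  have m : ∀ x y : P, ⁅(x : G), (y : G)⁆ ∈ P.lowerCentralSeries 1 := fun x y => commutator_mem_commutator x.2 y.2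
  have k : ∀ x y : P, (x : G) ∈ Lc N → ev ⟨_, m x y⟩ μ' = ev ⟨_, m x y⟩ μ := fun x y hx => by
    obtain ⟨b, hb, u, hu, e⟩ := mem_sup_of_normal_right.1 (h.Lc_le ⟨x.2, hx⟩)
    obtain ⟨c, hc, r, hr, e'⟩ := h.dec y.2
    have q : ∀ {a b : G}, ⁅a, b⁆ ∈ P.lowerCentralSeries 2 → Commute (a : G ⧸ P.lowerCentralSeries 2) b :=
      fun e => commutatorElement_eq_one_iff_commute.1 ((QuotientGroup.eq_one_iff _).2 e)
    have c1 := (q (commutator_mem_commutator hu y.2)).eq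
    have t : ⁅b, c⁆⁻¹ * ⁅(x : G), (y : G)⁆ ∈ P.lowerCentralSeries 2 := QuotientGroup.eq.1 (by
      rw [← e]
      simp only [commutatorElement_def, QuotientGroup.mk_mul, QuotientGroup.mk_inv]
      rw [mul_assoc (b : G ⧸ P.lowerCentralSeries 2) u, c1, e', QuotientGroup.mk_mul, mul_inv_rev, mul_inv_rev]
      simp only [mul_assoc, mul_inv_cancel_left]
      rw [← mul_assoc (r : G ⧸ P.lowerCentralSeries 2), ← (q (h.BR (commutator_mem_commutator hb hr))).inv_left.eq, mul_assoc,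
        mul_inv_cancel_left])
    have := ev_mul (μ' / μ) ⟨_, m ⟨b, hb.1⟩ ⟨c, hc.1⟩⟩ ⟨_, P.lowerCentralSeries_antitone one_le_two t⟩
    rw [h2 ⟨_, m ⟨b, hb.1⟩ ⟨c, hc.1⟩⟩ (mul_mem (mul_mem (mul_mem (mem_inf.1 hb).2 (mem_inf.1 hc).2) (inv_mem (mem_inf.1 hb).2))
      (inv_mem (mem_inf.1 hc).2)), div_mem h1' h1 ⟨_, P.lowerCentralSeries_antitone one_le_two t⟩ t, one_mul, map_div,
      div_eq_one_iff_eq (ev_ne_zero _ _)] at this
    convert this using 3 <;> exact Subtype.ext (mul_inv_cancel_left _ _).symm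
  have c : ∀ {φ : P → ℂ} {μ}, IsIrrCharacter P φ → Ly (lcs_le P _) φ μ → μ ∈ Tr _ (P.lowerCentralSeries 2) →
      ∀ x y z : P, φ ⁅⁅x, y⁆, z⁆ = φ 1 := fun hφ hl h1 x y z =>
    (hl.apply_eq_iff hφ ⟨_, m ⁅x, y⁆ z⟩).2 (h1 _ (commutator_mem_commutator (m x y) z.2))
  obtain ⟨D, d1, d2, d3⟩ := cl2_deg hφ (c hφ hl h1)
  obtain ⟨D', d1', d2', d3'⟩ := cl2_deg hφ' (c hφ' hl' h1')
  obtain rfl : D = D' := Subgroup.ext fun x => ⟨fun hx => (d2' x).2 fun y => (hl'.apply_eq_iff hφ' ⟨_, m x y⟩).2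
    ((k x y (not_not.1 fun n => (d3 x).1 hx (h.van hφ (Al.ne_one hφ hl h0) n))).trans
      ((hl.apply_eq_iff hφ ⟨_, m x y⟩).1 ((d2 x).1 hx y))), fun hx => (d2 x).2 fun y =>
    (hl.apply_eq_iff hφ ⟨_, m x y⟩).2 ((k x y (not_not.1 fun n => (d3' x).1 hx
      (h.van hφ' (Al.ne_one hφ' hl' h0') n))).symm.trans ((hl'.apply_eq_iff hφ' ⟨_, m x y⟩).1 ((d2' x).1 hx y)))⟩
  exact Nat.pow_left_injective two_ne_zero (d1.trans d1'.symm)

end Cfsg.Lib.Nd4
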