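import Cfsg.Agent.Lib.Nd4.Gen

/-!
# Case β-I: the action on the dual of the top chief factor of `N'`
-/

set_option autoImplicit false

namespace Cfsg.Lib.Nd4
open Cfsg.Lib.Char Cfsg.Lib.CharDeg Cfsg.Lib.Clifford Cfsg.Lib.Induce Cfsg.Lib.Core Cfsg.Lib.Gar
  Cfsg.Lib.RelGraph Cfsg.Lib.Nda Cfsg.Lib.BG Subgroup MulAction
open scoped commutatorElement

variable {G : Type*} [Group G] [Fintype G] {N X Y L : Subgroup G} {p : ℕ}

omit [Fintype G] in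
/-- A chief factor of a solvable group is abelian. -/
theorem chief_comm (hs : Group.IsSolvable G) [X.Normal] [L.Normal] (hL : L < X)
    (hm : ∀ J : Subgroup G, J.Normal → L ≤ J → J ≤ X → J = L ∨ J = X) : ⁅X, X⁆ ≤ L := by
  rcases hm (⁅X, X⁆ ⊔ L) inferInstance le_sup_right (sup_le (commutator_le_left X X) hL.le) with e | e
  · exact le_sup_left.trans e.le
  · have h0 : X.map (QuotientGroup.mk' L) ≠ ⊥ := fun c =>
      hL.not_ge (by rwa [Subgroup.map_eq_bot_iff, QuotientGroup.ker_mk'] at c)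
    refine absurd (Group.IsSolvable.commutator_lt_of_ne_bot h0).ne (not_not.2 ?_)
    rw [← map_commutator]
    conv_rhs => rw [← e, Subgroup.map_sup, (Subgroup.map_eq_bot_iff L).2 (QuotientGroup.ker_mk' L).ge, sup_bot_eq]

/-- The dual of an abelian chief factor is irreducible. -/
theorem chief_irr [X.Normal] [L.Normal] (hL : L ≤ X) (hc : ⁅X, X⁆ ≤ L)
    (hm : ∀ J : Subgroup G, J.Normal → L ≤ J → J ≤ X → J = L ∨ J = X) (Δ : Subgroup (Tr X L))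
    (hΔ : ∀ g : G, ∀ γ ∈ Δ, g • γ ∈ Δ) : Δ = ⊥ ∨ Δ = ⊤ := by
  let φ : X →* (Δ →* ℂˣ) :=
    { toFun := fun x =>
        { toFun := fun γ => γ.1.1.hom x
          map_one' := rfl
          map_mul' := fun _ _ => rfl }
      map_one' := MonoidHom.ext fun γ => map_one γ.1.1.hom
      map_mul' := fun x y => MonoidHom.ext fun γ => map_mul γ.1.1.hom x y }
  have m : ∀ x : X, x ∈ φ.ker ↔ ∀ γ ∈ Δ, ev x γ.1 = 1 := fun x =>
    ⟨fun e γ hγ => congrArg Units.val (show γ.1.hom x = 1 from DFunLike.congr_fun e ⟨γ, hγ⟩),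
      fun e => MonoidHom.ext fun γ => Units.ext (e γ.1 γ.2)⟩
  have n : (φ.ker.map X.subtype).Normal := ⟨by
    rintro _ ⟨x, hx, rfl⟩ g
    refine ⟨⟨_, (inferInstance : X.Normal).conj_mem _ x.2 g⟩, (m _).2 fun γ hγ => ?_, rfl⟩
    have := (m x).1 hx _ (hΔ g⁻¹ γ hγ)
    rwa [tr_smul, inv_inv, ev_cj] at this⟩
  rcases hm _ n (fun x hx => ⟨⟨x, hL hx⟩, (m _).2 fun γ _ => γ.2 _ hx, rfl⟩) (map_subtype_le _) with e | e
  · refine Or.inr (eq_top_of_le_card _ ?_)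
    have k : φ.ker = L.subgroupOf X :=
      (comap_map_eq_self_of_injective X.subtype_injective _).symm.trans (congrArg (comap X.subtype) e)
    have := finite_hom_units Δ
    rw [card_Tr hc, relIndex, ← k, index_ker]
    exact (card_le_card_group _).trans (by
      rw [card_hom_units]; exact Nat.le_of_dvd Nat.card_pos (index_dvd_card _))
  · refine Or.inl ((eq_bot_iff_forall _).2 fun γ hγ => Subtype.ext (lin_injective (funext fun x => ?_)))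
    obtain ⟨y, hy, e'⟩ := e.ge x.2
    rw [show x = y from Subtype.ext e'.symm]
    exact (m y).1 hy γ hγ

/-- `Sb.top` with the elementary facts as hypotheses. -/
theorem Sb.top' [N.Normal] (h : Sb G N Y p) [L.Normal]
    (h1 : ∀ c ∈ N ⊓ Y, c ∈ Lc N ↔ ∀ y ∈ Y, y * c = c * y)
    (h2 : ∀ b ∈ N ⊓ Y, b ∉ Lc N → ∀ a : Lin (⁅N, N⁆ : Subgroup G), cj b a = a → a = 1)
    (h3 : ⁅Y, Y⁆ ≠ ⊥)
    (h4 : ∀ a : Lin (⁅N, N⁆ : Subgroup G), a ≠ 1 → (inertia _ (lin a)).index ∈ cd G ∧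
      (inertia _ (lin a)).index ≠ 1 ∧ ¬ N.index ∣ (inertia _ (lin a)).index)
    (hL : L < ⁅N, N⁆)
    (hm : ∀ J : Subgroup G, J.Normal → L ≤ J → J ≤ ⁅N, N⁆ → J = L ∨ J = ⁅N, N⁆) :
    ⁅⁅N, N⁆, ⁅N, N⁆⁆ ≤ L ∧ ∃ q, Top Y (Tr ⁅N, N⁆ L) (N.subgroupOf Y) q := by
  have c := chief_comm h.sol hL hm
  have ir : ∀ Δ : Subgroup (Tr ⁅N, N⁆ L), (∀ y : Y, ∀ γ ∈ Δ, y • γ ∈ Δ) → Δ = ⊥ ∨ Δ = ⊤ := fun Δ hΔ =>
    chief_irr hL.le c hm Δ fun g γ hγ => by
      obtain ⟨y, hy, x, hx, rfl⟩ := mem_sup_of_normal_right.1 ((sup_comm Y _).trans h.sup |>.ge (mem_top g))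
      rw [mul_smul, show x • γ = γ from Subtype.ext (cj_of_mem (inv_mem hx) _)]
      exact hΔ ⟨y, hy⟩ γ hγ
  have st : ∀ γ : Tr ⁅N, N⁆ L, (stabilizer Y γ).index = (inertia _ (lin γ.1)).index := fun γ => by
    rw [← idx_Y h.sup (le_inertia _ (irr_lin γ.1).isClassFunction), ← stab_Tr]; rfl
  have ne : ∀ γ : Tr ⁅N, N⁆ L, γ ≠ 1 → γ.1 ≠ 1 := fun γ a b => a (Subtype.ext b)
  have bot : ∀ w ∈ ⁅N, N⁆, w ∈ Y → w = 1 := fun w a b => (eq_bot_iff_forall _).1 h.inf w ⟨a, b⟩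
  have nt : Nontrivial (Tr ⁅N, N⁆ L) := by
    obtain ⟨x, hx, hx'⟩ := SetLike.exists_of_lt hL
    obtain ⟨a, ha, e⟩ := sep c (x := ⟨x, hx⟩) hx'
    exact ⟨⟨a, ha⟩, 1, fun e' => e (by rw [show a = 1 from congrArg Subtype.val e', map_one])⟩
  obtain ⟨q, hq, hd⟩ := Nat.exists_prime_and_dvd (Finite.one_lt_card (α := Tr ⁅N, N⁆ L)).ne'
  have := Fact.mk hq
  obtain ⟨γ₀, h0⟩ := exists_prime_orderOf_dvd_card' q hd
  have := h.cyc
  refine ⟨c, q, hq, fun γ => ⟨1, ?_⟩, nt, isCyclic_quotient_subgroupOf_of_map N inferInstance,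
    fun a ha b hb => ?_, fun e => h3 ?_, fun y hy w hw e => ?_, fun a ha hc γ e => ?_, ir,
    fun γ δ hγ hδ => ?_, fun γ hγ => ?_⟩
  · rcases ir (powMonoidHom q : _ →* Tr ⁅N, N⁆ L).ker (fun y γ (e : γ ^ q = 1) =>
      show (y • γ) ^ q = 1 by rw [← smul_pow', e, smul_one]) with e | e
    · refine absurd h0 ?_
      rw [(eq_bot_iff_forall _).1 e γ₀ (show γ₀ ^ q = 1 by rw [← h0, pow_orderOf_eq_one]), orderOf_one]
      exact hq.one_lt.ne
    · rw [pow_one]; exact e.ge (mem_top γ)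
  · exact Subtype.ext (commutatorElement_eq_one_iff_mul_comm.1 (bot _ (commutator_mem_commutator ha hb)
      (⁅a, b⁆).2))
  · rw [← map_subtype_commutator, e, Subgroup.map_bot]
  · refine Subtype.ext (bot _ (h.fpf (g := y) hy (commutator_mono le_top le_top (map_subtype_commutator Y ▸
      mem_map_of_mem Y.subtype hw)) ?_) w.2)
    rw [commutatorElement_eq_one_iff_mul_comm.2 (congrArg Subtype.val e)]
    exact one_mem _
  · refine Subtype.ext (h2 a ⟨ha, a.2⟩ (fun k => hc (mem_center_iff.2 fun y =>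
      Subtype.ext ((h1 a ⟨ha, a.2⟩).1 k y y.2))) _ (mem_inertia_lin.1 ?_))
    rw [← stab_Tr]
    exact e
  · rw [st, st]
    exact h.nd _ (h4 _ (ne γ hγ)).1 _ (h4 _ (ne δ hδ)).1 (h4 _ (ne γ hγ)).2.1
  · rw [st, idx_Y h.sup (commutator_le_left N N)]
    exact (h4 _ (ne γ hγ)).2.2

end Cfsg.Lib.Nd4
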