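import Cfsg.Agent.Lib.Nd4.Sb1

/-!
# Case β-I: the commutator pairing on the top chief factor is nondegenerate
-/

set_option autoImplicit false

namespace Cfsg.Lib.Nd4
open Cfsg.Lib.Char Cfsg.Lib.CharDeg Cfsg.Lib.Clifford Cfsg.Lib.Induce Cfsg.Lib.Core Cfsg.Lib.Gar
  Cfsg.Lib.RelGraph Cfsg.Lib.Nda Cfsg.Lib.BG Subgroup MulAction
open scoped commutatorElement

theorem exists_qpart {Y : Type*} [Group Y] [Finite Y] {T0 : Subgroup Y}
    (hT : ∀ a ∈ T0, ∀ b ∈ T0, a * b = b * a) {q : ℕ} (hq : q.Prime) :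
    ∃ S0 ≤ T0, (Nat.card S0).Coprime q ∧ ∀ T ≤ T0, ∃ k, S0.relIndex T = q ^ k := by
  have := Fact.mk hq
  obtain ⟨e, n, h1, h2⟩ := Nat.exists_eq_pow_mul_and_not_dvd (Nat.card_pos (α := Y)).ne' q hq.ne_one
  let f : T0 →* Y := MonoidHom.mk' (fun t => t.1 ^ n) fun a b =>
    (show Commute a.1 b.1 from hT _ a.2 _ b.2).mul_pow n
  refine ⟨f.ker.map T0.subtype, map_subtype_le _, (hq.coprime_iff_not_dvd.2 fun hd => ?_).symm, fun T l => ?_⟩
  · obtain ⟨⟨_, y, hy, rfl⟩, e⟩ := exists_prime_orderOf_dvd_card' q hd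
    exact h1 (e ▸ orderOf_dvd_of_pow_eq_one (Subtype.ext hy))
  · have : (f.ker.map T0.subtype).subgroupOf T = (f.comp (inclusion l)).ker :=
      Subgroup.ext fun t => ⟨fun ⟨y, hy, e⟩ => (congrArg (· ^ n) e).symm.trans hy, fun ht => ⟨inclusion l t, ht, rfl⟩⟩
    rw [relIndex, this, index_ker]
    exact IsPGroup.exists_card_eq fun ⟨_, t, rfl⟩ => ⟨e, Subtype.ext (show (t.1 ^ n) ^ q ^ e = 1 by
      rw [← pow_mul, mul_comm, ← h2, pow_card_eq_one'])⟩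

variable {G : Type*} [Group G] [Fintype G] {N Y L : Subgroup G} [N.Normal] {p : ℕ}

theorem Sb.nondeg' (h : Sb G N Y p) [L.Normal] (hL : L < ⁅N, N⁆)
    (hm : ∀ J : Subgroup G, J.Normal → L ≤ J → J ≤ ⁅N, N⁆ → J = L ∨ J = ⁅N, N⁆) {μ : Lin L}
    (hI : ∀ {S : Subgroup G}, S ≤ inertia L (lin μ) → (Nat.card S).Coprime (L.relIndex ⁅N, N⁆) →
      ∃ θ : (⁅N, N⁆ : Subgroup G) → ℂ, IsIrrCharacter _ θ ∧ Ly hL.le θ μ ∧ S ≤ inertia _ θ)
    (h0 : μ ≠ 1) {v : G} (hv : v ∈ ⁅N, N⁆) (hv' : v ∉ L) :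
    ∃ y ∈ ⁅N, N⁆, ∃ hz : ⁅v, y⁆ ∈ L, ev (⟨_, hz⟩ : L) μ ≠ 1 := by
  obtain ⟨hX, q, t⟩ := h.top hL hm
  have := Fact.mk t.hq
  obtain ⟨d, hq, hd⟩ := t.const
  obtain ⟨n, hn⟩ := t.pq.exists_card_eq
  have hT : (inertia L (lin μ)).subgroupOf Y ⊓ N.subgroupOf Y ≤ center Y := fun y hy =>
    mem_center_iff.2 fun z => Subtype.ext ((h.mem_Lc_iff ⟨hy.2, y.2⟩).1 (by_contra fun c =>
      h0 (h.fixL hL.le ⟨hy.2, y.2⟩ c (mem_inertia_lin.1 hy.1))) z z.2)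
  obtain ⟨S0, s1, s2, s3⟩ := exists_qpart (t.comm hT) t.hq
  obtain ⟨θ, c1, c2, c3⟩ := hI (S := S0.map Y.subtype) (map_le_iff_le_comap.2 s1) (by
    rw [card_subtype, ← card_Tr hX, hn]; exact s2.pow_right n)
  have c4 : ∀ s ∈ S0, conjChar _ (s : G)⁻¹ θ = θ := fun s hs =>
    (mem_inertia _).1 (inv_mem (c3 (mem_map_of_mem _ hs)))
  let Δ : Subgroup (Tr ⁅N, N⁆ L) :=
    { carrier := {s | tw s.1 θ = θ}
      one_mem' := tw_one θ
      mul_mem' := fun {a b} ha hb => (tw_tw a.1 b.1 θ).symm.trans ((congrArg _ hb).trans ha)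
      inv_mem' := fun {a} ha => tw_injective a.1 (by
        rw [tw_tw, coe_inv, mul_inv_cancel, tw_one]; exact ha.symm) }
  have key : ∀ η ∉ Δ, charDegree θ = 1 ∧ (inertia _ (tw η.1 θ)).subgroupOf Y ≤ (inertia L (lin μ)).subgroupOf Y ∧
      ((inertia _ (tw η.1 θ)).subgroupOf Y).index = d := fun η hη => by
    have i := irr_tw η.1 c1
    have l : (inertia _ (tw η.1 θ)).subgroupOf Y ≤ (inertia L (lin μ)).subgroupOf Y :=
      comap_mono (Ly.inertia_le (h := hL.le) i fun g u => by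
        rw [tw, tw, ev_mul, c2, η.2 ⟨u, hL.le u.2⟩ u.2, mul_one, mul_assoc])
    obtain ⟨k, hk⟩ := s3 _ l
    obtain ⟨δ, d1, d2⟩ := fix_coset (S := S0 ⊓ (inertia _ (tw η.1 θ)).subgroupOf Y) (Δ := Δ) (η := η)
      (hn ▸ (s2.coprime_dvd_left (card_dvd_of_le inf_le_left)).pow_right n)
      (fun s hs δ (hδ : tw δ.1 θ = θ) => by
        have := conjChar_tw (s : G)⁻¹ δ.1 θ
        rw [hδ, c4 s hs.1] at this
        exact this.symm)
      fun s hs => tw_injective η.1 (by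
        have := conjChar_tw (s : G)⁻¹ η.1 θ
        rw [c4 s hs.1, (mem_inertia _).1 (inv_mem (show (s : G) ∈ inertia _ (tw η.1 θ) from hs.2))] at this
        rw [tw_tw, coe_div, mul_div_cancel]
        exact this.symm)
    have n1 : η * δ ≠ 1 := fun e => hη (eq_inv_of_mul_eq_one_left e ▸ inv_mem d1)
    have n2 := index_dvd_of_le (show _ ≤ stabilizer Y (η * δ) from d2)
    rw [hd _ n1, ← relIndex_mul_index inf_le_right, inf_relIndex_right, hk] at n2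
    replace n2 := ((t.hq.coprime_iff_not_dvd.2 hq).symm.pow_right k).dvd_of_dvd_mul_left n2
    obtain ⟨n3, n4, -⟩ := h.idx (a := (η * δ).1) fun e => n1 (Subtype.ext e)
    rw [← h.idx_stab, hd _ n1] at n3 n4
    have := Fintype.ofFinite (⁅N, N⁆ : Subgroup G)
    obtain ⟨χ, e1, e2⟩ := exists_irr_above _ i
    have e3 := deg_dvd e1 i (by convert e2)
    rw [← idx_Y h.sup (le_inertia _ i.isClassFunction), deg_tw] at e3
    rw [← h.nd _ n3 _ (charDegree_mem_cd e1) n4 (n2.trans ((dvd_mul_right _ _).trans e3))] at e3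
    exact ⟨Nat.dvd_one.1 (Nat.dvd_of_mul_dvd_mul_left (Nat.pos_of_ne_zero index_ne_zero_of_finite)
      (by rw [mul_one]; exact e3.trans n2)), l, Nat.dvd_antisymm ((dvd_mul_right _ _).trans e3) n2⟩
  have top : ∀ η, η ∈ Δ := fun η => by_contra fun hη => by
    obtain ⟨a, rfl⟩ := exists_eq_lin c1.isCharacter (key η hη).1
    have b : ∀ γ ≠ 1, γ ∉ Δ := fun γ hγ (e : tw γ.1 (lin a) = lin a) =>
      hγ (Subtype.ext (mul_eq_right.1 (lin_injective ((tw_lin _ _).symm.trans e))))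
    have n1 : η ≠ 1 := fun e => hη (e ▸ one_mem _)
    obtain ⟨x, x1, x2⟩ := Top.common t.cyc (hd η n1 ▸ t.nf η n1) hT
    have x3 : ∀ γ : Tr ⁅N, N⁆ L, γ ≠ 1 → cj (x : G)⁻¹ (γ.1 * a) = γ.1 * a := fun γ hγ => by
      have : (x : G) ∈ inertia _ (tw γ.1 (lin a)) := x2 _ (key γ (b γ hγ)).2.1 (key γ (b γ hγ)).2.2
      rw [tw_lin] at this
      exact mem_inertia_lin.1 (inv_mem this)
    refine x1 (t.mem_of_div fun γ γ' e e' => Subtype.ext ?_)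
    change cj (x : G)⁻¹ (γ.1 / γ'.1) = γ.1 / γ'.1
    rw [← mul_div_mul_right_eq_div γ.1 γ'.1 a, map_div, x3 γ e, x3 γ' e']
  obtain ⟨a, a1, a2⟩ := sep hX (x := ⟨v, hv⟩) hv'
  by_contra! c
  exact a2 ((mul_eq_right₀ (Pal.ne_zero_of_comm c1 fun y => (c2.apply_eq_iff c1
    ⟨_, hX (commutator_mem_commutator hv y.2)⟩).2 (c y y.2 _))).1 (congrFun (top ⟨a, a1⟩) ⟨v, hv⟩))

end Cfsg.Lib.Nd4
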