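import Cfsg.Agent.Lib.Nd4.Sb2n
import Cfsg.Agent.Lib.CharDeg.CoprimeConst

/-!
# Case β-I: invariant characters over a central linear character
-/

set_option autoImplicit false

namespace Cfsg.Lib.Nd4
open Cfsg.Lib.Char Cfsg.Lib.CharDeg Cfsg.Lib.Clifford Cfsg.Lib.Induce Cfsg.Lib.Core Cfsg.Lib.Gar
  Cfsg.Lib.RelGraph Cfsg.Lib.Nda Cfsg.Lib.BG Subgroup MulAction
open scoped commutatorElement

variable {G : Type*} [Group G] [Fintype G] {N Y L : Subgroup G} [N.Normal] {p : ℕ}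

omit [N.Normal] in
theorem exists_inv' {X : Subgroup G} [X.Normal] [hL : L.Normal] (h : L ≤ X) (hX : ⁅X, X⁆ ≤ L) (hZ : L ≤ 𝐂(X))
    {μ : Lin L} {S : Subgroup G} (hS : S ≤ inertia L (lin μ))
    (hc : (Nat.card S).Coprime (L.relIndex X)) :
    ∃ θ : X → ℂ, IsIrrCharacter X θ ∧ Ly h θ μ ∧ S ≤ inertia X θ := by
  classical
  let φ : S →* MulAut X := MulAut.conjNormal.comp S.subtype
  have hφ : ∀ a, ∀ x ∈ L.subgroupOf X, φ a x ∈ L.subgroupOf X := fun a x hx => hL.conj_mem _ hx _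
  have := Fintype.ofFinite (L.subgroupOf X)
  have nr : (L.subgroupOf X).subtype.range.Normal := by rw [range_subtype]; infer_instance
  obtain ⟨θ, h1, h2⟩ := exists_invariant_above_of_solvable (restrictAut φ _ hφ) ⊥
    ⟨_, isIrrCharacter_hom (μ.hom.comp (subgroupOfEquivOfLe h).toMonoidHom)⟩
    (fun a g => (mem_inertia_iff L).1 (hS a.2) ⟨g, g.2⟩) X φ (L.subgroupOf X).subtype
    (subtype_injective _) (fun _ _ => rfl) (fun a ha => ⟨1, fun g => by rw [mem_bot.1 ha]; simp⟩)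
    (by rw [index_bot, range_subtype]; exact hc) (Group.isSolvable_of_comm fun a b => by
      obtain ⟨a, rfl⟩ := QuotientGroup.mk_surjective a
      obtain ⟨b, rfl⟩ := QuotientGroup.mk_surjective b
      refine commutatorElement_eq_one_iff_mul_comm.1 ((QuotientGroup.eq_one_iff ⁅a, b⁆).2 ?_)
      exact ⟨⟨⁅a, b⁆, hX (commutator_mem_commutator a.2 b.2)⟩, rfl⟩)
  refine ⟨θ, θ.2, fun g u => ?_, fun g hg => (mem_inertia_iff X).2 fun n => h2 ⟨g, hg⟩ n⟩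
  have h4 := resMult_ne_zero_iff.1 h1
  dsimp only at h4
  have c : (⟨u, h u.2⟩ : X) ∈ center X := mem_center_iff.2 fun g => Subtype.ext (hZ u.2 g g.2)
  have := Coprime.apply_div_eq_of_inner_ne_zero (Q := L.subgroupOf X) θ.2
    (isIrrCharacter_hom (μ.hom.comp (subgroupOfEquivOfLe h).toMonoidHom))
    (by simpa only [subtype_apply] using h4) (z := ⟨⟨u, h u.2⟩, u.2⟩) c
  rw [map_one, Units.val_one, div_one] at this
  rw [chr_mul θ.2 (θ.2.center_le_charCenter c), ← this]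
  rfl

theorem Sb.nondeg'' (h : Sb G N Y p) [L.Normal] (hL : L < ⁅N, N⁆)
    (hm : ∀ J : Subgroup G, J.Normal → L ≤ J → J ≤ ⁅N, N⁆ → J = L ∨ J = ⁅N, N⁆)
    (hZ : L ≤ 𝐂(⁅N, N⁆)) {μ : Lin L} (h0 : μ ≠ 1) {v : G} (hv : v ∈ ⁅N, N⁆) (hv' : v ∉ L) :
    ∃ y ∈ ⁅N, N⁆, ∃ hz : ⁅v, y⁆ ∈ L, ev (⟨_, hz⟩ : L) μ ≠ 1 :=
  h.nondeg' hL hm h0 hv hv' fun _ a b => exists_inv' hL.le (h.top hL hm).1 hZ a b

end Cfsg.Lib.Nd4
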