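import Cfsg.Agent.Lib.Nd4.Def

/-!
# Tools: coprime actions on abelian groups
-/

set_option autoImplicit false
set_option linter.unusedSectionVars false

namespace Cfsg.Lib.Nd4
open Cfsg.Lib.Char Cfsg.Lib.CharDeg Cfsg.Lib.Clifford Cfsg.Lib.Induce Cfsg.Lib.Core Cfsg.Lib.Gar
  Cfsg.Lib.RelGraph Cfsg.Lib.Nda Cfsg.Lib.BG Subgroup MulAction
open scoped commutatorElement Pointwise

section Act
variable {Y Γ : Type*} [Group Y] [Finite Y] [CommGroup Γ] [Finite Γ] [MulDistribMulAction Y Γ]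

theorem fix_coset' {S : Subgroup Y} (hc : (Nat.card S).Coprime (Nat.card Γ)) {Δ : Subgroup Γ}
    {η : Γ} (h : ∀ s ∈ S, s • η / η ∈ Δ) : ∃ δ ∈ Δ, ∀ s ∈ S, s • (η * δ) = η * δ := by
  have := Fintype.ofFinite S
  obtain ⟨k, hk⟩ := exists_pow_eq_self_of_coprime (x := η) (hc.coprime_dvd_right (orderOf_dvd_natCard η))
  refine ⟨(∏ s : S, (s.1 • η / η)) ^ k, pow_mem (prod_mem fun (s : S) _ => h s s.2) k, fun t ht => ?_⟩
  have e : η * (∏ s : S, (s.1 • η / η)) ^ k = (∏ s : S, s.1 • η) ^ k := by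
    rw [Finset.prod_div_distrib, Finset.prod_const, Finset.card_univ, ← Nat.card_eq_fintype_card, div_pow, hk,
      mul_div_cancel]
  rw [e, smul_pow', Finset.smul_prod']
  congr 1
  exact Fintype.prod_equiv (Equiv.mulLeft (⟨t, ht⟩ : S)) _ _ fun s => by simp [mul_smul]

open SemidirectProduct in
theorem exists_cocyc' [Nontrivial Γ] {A : Subgroup Y} (hA : ∀ a ∈ A, ∀ b ∈ A, a * b = b * a)
    (hc : (Nat.card A).Coprime (Nat.card Γ)) :
    ∃ γ : Γ, γ ≠ 1 ∧ ∃ a ∈ A, A ≤ zpowers a ⊔ (A ⊓ stabilizer Y γ) := by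
  by_contra! hn
  have : IsMulCommutative A := ⟨⟨fun a b => Subtype.ext (hA a a.2 b b.2)⟩⟩
  have := Coprime.le_of_forall_cocyclic (A := A.map (inr : Y →* Pal.SD Y Γ)) (H := ⊥) inferInstance (Pal.sd_norm A)
    (Pal.sd_cop hc) (by
      rintro B hB ⟨_, ⟨a, ha, rfl⟩, e⟩ _ ⟨⟨γ, -, rfl⟩, hγ⟩
      by_contra h1
      refine hn γ (fun e => h1 (by rw [e, map_one]; exact one_mem _)) a ha ?_
      rw [← map_le_map_iff_of_injective (inr_injective (φ := MulDistribMulAction.toMulAut Y Γ)), ← e, Subgroup.map_sup,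
        MonoidHom.map_zpowers, sup_comm]
      refine sup_le_sup_left (fun b hb => ?_) _
      obtain ⟨c, hc, rfl⟩ := hB hb
      exact ⟨c, ⟨hc, Pal.sd_comm.1 (hγ _ hb)⟩, rfl⟩)
  exact top_ne_bot ((map_eq_bot_iff_of_injective _ inl_injective).1 (le_bot_iff.1 this))

end Act

variable {G : Type*} [Group G] [Fintype G] {X Y : Subgroup G}

theorem orb' [X.Normal] {H : Subgroup G} (hH : ∀ a ∈ H, ∀ b ∈ H, a * b = b * a)
    (hc : (Nat.card H).Coprime (Nat.card X)) {a ν : Lin X} {k : G} (hk : k ∈ H) (h1 : cj k a = a)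
    (h2 : cj k ν ≠ ν) : cj k (a * (cj k ν / ν)) ≠ a * (cj k ν / ν) ∧
      ∀ h ∈ H, cj h (a * (cj k ν / ν)) = a * (cj k ν / ν) → cj h a = a := by
  have key : ∀ η : Lin X, cj k (cj k η / η) = cj k η / η → cj k η / η = 1 := fun η e => by
    have p : ∀ n : ℕ, cj (k ^ n) η = (cj k η / η) ^ n * η := fun n => by
      induction n with
      | zero => simp [cj_one]
      | succ n ih => rw [pow_succ, cj_mul, ih, map_mul, map_pow, e, pow_succ, mul_assoc, div_mul_cancel]
    have q1 := p (Nat.card H)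
    rw [show k ^ Nat.card H = 1 from congrArg Subtype.val (pow_card_eq_one' (x := (⟨k, hk⟩ : H))), cj_one, eq_comm,
      mul_eq_right] at q1
    have q2 : (cj k η / η) ^ Nat.card X = 1 := MonoidHom.ext fun n => by
      change (cj k η / η).hom n ^ Nat.card X = 1
      rw [← map_pow, pow_card_eq_one', map_one]
    rw [← orderOf_eq_one_iff]
    exact Nat.eq_one_of_dvd_coprimes hc (orderOf_dvd_of_pow_eq_one q1) (orderOf_dvd_of_pow_eq_one q2)
  refine ⟨fun e => h2 (div_eq_one.1 (key ν ?_)), fun h hh e => ?_⟩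
  · rwa [map_mul, h1, mul_right_inj] at e
  · have c : ∀ η : Lin X, cj k (cj h η) = cj h (cj k η) := fun η => by rw [← cj_mul, ← cj_mul, hH k hk h hh]
    have e1 : cj k (cj h ν / ν)⁻¹ / (cj h ν / ν)⁻¹ = cj h a / a := by
      rw [map_mul, map_div] at e
      rw [map_inv, map_div, c, eq_mul_inv_of_mul_eq e]
      simp only [div_eq_mul_inv, mul_inv, inv_inv]
      rw [eq_comm, mul_inv_eq_iff_eq_mul]
      ac_rfl
    have := key (cj h ν / ν)⁻¹ (by rw [e1, map_div, c, h1])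
    rwa [e1, div_eq_one] at this

theorem idx_Y' [X.Normal] (h : X ⊔ Y = ⊤) {T : Subgroup G} (hT : X ≤ T) :
    (T.subgroupOf Y).index = T.index := by
  refine Nat.card_congr (Equiv.ofBijective (Quotient.map' Subtype.val fun a b e => ?_) ⟨fun a b => ?_, fun a => ?_⟩)
  · rw [QuotientGroup.leftRel_apply] at e ⊢
    exact e
  · induction a using QuotientGroup.induction_on
    induction b using QuotientGroup.induction_on
    exact fun e => QuotientGroup.eq.2 (QuotientGroup.eq.1 e :)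
  · induction a using QuotientGroup.induction_on with | H g =>
    obtain ⟨y, hy, x, hx, rfl⟩ : g ∈ (Y : Set G) * (X : Set G) := by
      rw [← Subgroup.mul_normal, sup_comm, h]; trivial
    exact ⟨QuotientGroup.mk ⟨y, hy⟩, QuotientGroup.eq.2 (by simpa using hT hx)⟩

end Cfsg.Lib.Nd4
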